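import Cfsg.Agent.Spor.HLt.D0

set_option autoImplicit false
set_option maxRecDepth 100000000
set_option Elab.async false

namespace Cfsg.Agent.Spor.HLt

theorem ok0 : Net.okb 10 n0 = true := by decide +kernel

theorem ok1 : Net.okb 10 n1 = true := by decide +kernel

theorem ok2 : Net.okb 10 n2 = true := by decide +kernel

theorem ok3 : Net.okb 10 n3 = true := by decide +kernel

theorem ok4 : Net.okb 10 n4 = true := by decide +kernel

theorem ok5 : Net.okb 10 n5 = true := by decide +kernel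

theorem ok6 : Net.okb 10 n6 = true := by decide +kernel

theorem ok7 : Net.okb 10 n7 = true := by decide +kernel

theorem ok8 : Net.okb 10 n8 = true := by decide +kernel

theorem ok9 : Net.okb 10 n9 = true := by decide +kernel

theorem rel0 : T.rel 10 [1, 1] 0 10 = true := by decide +kernel

theorem rel1 : T.rel 10 [2, 2] 0 10 = true := by decide +kernel

theorem rel2 : T.rel 10 [3, 3] 0 10 = true := by decide +kernel

theorem rel3 : T.rel 10 [4, 4] 0 10 = true := by decide +kernel

theorem rel4 : T.rel 10 [5, 5] 0 10 = true := by decide +kernel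

theorem rel5 : T.rel 10 [6, 6] 0 10 = true := by decide +kernel

theorem rel6 : T.rel 10 [7, 7] 0 10 = true := by decide +kernel

theorem rel7 : T.rel 10 [8, 8] 0 10 = true := by decide +kernel

theorem rel8 : T.rel 10 [9, 9] 0 10 = true := by decide +kernel

theorem rel9 : T.rel 10 [10, 10] 0 10 = true := by decide +kernel

theorem rel10 : T.rel 10 [2, 1, 2, 1] 0 10 = true := by decide +kernel

theorem rel11 : T.rel 10 [3, 1, 3, 1] 0 10 = true := by decide +kernel

theorem rel12 : T.rel 10 [4, 1, 4, 1] 0 10 = true := by decide +kernel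

theorem rel13 : T.rel 10 [2, 5, 1, 5, 1] 0 10 = true := by decide +kernel

theorem rel14 : T.rel 10 [3, 6, 1, 6, 1] 0 10 = true := by decide +kernel

theorem rel15 : T.rel 10 [4, 7, 1, 7, 1] 0 10 = true := by decide +kernel

theorem rel16 : T.rel 10 [8, 1, 8, 1] 0 10 = true := by decide +kernel

theorem rel17 : T.rel 10 [9, 1, 9, 1] 0 10 = true := by decide +kernel

theorem rel18 : T.rel 10 [10, 1, 10, 1] 0 10 = true := by decide +kernel

theorem rel19 : T.rel 10 [3, 2, 3, 2] 0 10 = true := by decide +kernel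

theorem rel20 : T.rel 10 [4, 2, 4, 2] 0 10 = true := by decide +kernel

theorem rel21 : T.rel 10 [5, 2, 5, 2] 0 10 = true := by decide +kernel

theorem rel22 : T.rel 10 [6, 2, 6, 2] 0 10 = true := by decide +kernel

theorem rel23 : T.rel 10 [7, 2, 7, 2] 0 10 = true := by decide +kernel

theorem rel24 : T.rel 10 [3, 8, 2, 8, 2] 0 10 = true := by decide +kernel

theorem rel25 : T.rel 10 [4, 9, 2, 9, 2] 0 10 = true := by decide +kernel

theorem rel26 : T.rel 10 [10, 2, 10, 2] 0 10 = true := by decide +kernel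

theorem rel27 : T.rel 10 [4, 3, 4, 3] 0 10 = true := by decide +kernel

theorem rel28 : T.rel 10 [5, 3, 5, 3] 0 10 = true := by decide +kernel

theorem rel29 : T.rel 10 [6, 3, 6, 3] 0 10 = true := by decide +kernel

theorem rel30 : T.rel 10 [7, 3, 7, 3] 0 10 = true := by decide +kernel

theorem rel31 : T.rel 10 [8, 3, 8, 3] 0 10 = true := by decide +kernel

theorem rel32 : T.rel 10 [9, 3, 9, 3] 0 10 = true := by decide +kernel

theorem rel33 : T.rel 10 [4, 10, 3, 10, 3] 0 10 = true := by decide +kernel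

theorem rel34 : T.rel 10 [5, 4, 5, 4] 0 10 = true := by decide +kernel

theorem rel35 : T.rel 10 [6, 4, 6, 4] 0 10 = true := by decide +kernel

theorem rel36 : T.rel 10 [7, 4, 7, 4] 0 10 = true := by decide +kernel

theorem rel37 : T.rel 10 [8, 4, 8, 4] 0 10 = true := by decide +kernel

theorem rel38 : T.rel 10 [9, 4, 9, 4] 0 10 = true := by decide +kernel

theorem rel39 : T.rel 10 [10, 4, 10, 4] 0 10 = true := by decide +kernel

theorem rel40 : T.rel 10 [6, 5, 6, 5] 0 10 = true := by decide +kernel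

theorem rel41 : T.rel 10 [7, 5, 7, 5] 0 10 = true := by decide +kernel

theorem rel42 : T.rel 10 [6, 8, 5, 8, 5] 0 10 = true := by decide +kernel

theorem rel43 : T.rel 10 [7, 9, 5, 9, 5] 0 10 = true := by decide +kernel

theorem rel44 : T.rel 10 [10, 5, 10, 5] 0 10 = true := by decide +kernel

theorem rel45 : T.rel 10 [7, 6, 7, 6] 0 10 = true := by decide +kernel

theorem rel46 : T.rel 10 [8, 6, 8, 6] 0 10 = true := by decide +kernel

theorem rel47 : T.rel 10 [9, 6, 9, 6] 0 10 = true := by decide +kernel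

theorem rel48 : T.rel 10 [7, 10, 6, 10, 6] 0 10 = true := by decide +kernel

theorem rel49 : T.rel 10 [8, 7, 8, 7] 0 10 = true := by decide +kernel

theorem rel50 : T.rel 10 [9, 7, 9, 7] 0 10 = true := by decide +kernel

theorem rel51 : T.rel 10 [10, 7, 10, 7] 0 10 = true := by decide +kernel

theorem rel52 : T.rel 10 [9, 8, 9, 8] 0 10 = true := by decide +kernel

theorem rel53 : T.rel 10 [9, 10, 8, 10, 8] 0 10 = true := by decide +kernel

theorem rel54 : T.rel 10 [10, 9, 10, 9] 0 10 = true := by decide +kernel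

theorem hcov : T.treeCov (ones 1024) L 1 = true := by decide +kernel

theorem hg : lall (fun z => band (memL L z) (band (sub (ones 1024) (T.let z).cl) (T.closed (ones 1024) z))) gs = true := by decide +kernel

theorem rot1_1 : T.rot 1 [1] (sel (ones 1024) ip1 1) = true := by decide +kernel

theorem rot1_1r : band (Rule.ok (2 * 10) EX RL ⟨1 :: [1], [], 45, false⟩) (lall (memL L) [1]) = true := by decide +kernel

theorem rot1_2 : T.rot 1 [2, 1, 2] (sel (ones 1024) ip1 2) = true := by decide +kernel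

theorem rot1_2r : band (Rule.ok (2 * 10) EX RL ⟨1 :: [2, 1, 2], [], 0, false⟩) (lall (memL L) [2, 1, 2]) = true := by decide +kernel

theorem rot1_3 : T.rot 1 [3, 1, 3] (sel (ones 1024) ip1 3) = true := by decide +kernel

theorem rot1_3r : band (Rule.ok (2 * 10) EX RL ⟨1 :: [3, 1, 3], [], 1, false⟩) (lall (memL L) [3, 1, 3]) = true := by decide +kernel

theorem rot1_4 : T.rot 1 [4, 1, 4] (sel (ones 1024) ip1 4) = true := by decide +kernel

theorem rot1_4r : band (Rule.ok (2 * 10) EX RL ⟨1 :: [4, 1, 4], [], 2, false⟩) (lall (memL L) [4, 1, 4]) = true := by decide +kernel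

theorem rot1_5 : T.rot 1 [8, 1, 8] (sel (ones 1024) ip1 5) = true := by decide +kernel

theorem rot1_5r : band (Rule.ok (2 * 10) EX RL ⟨1 :: [8, 1, 8], [], 6, false⟩) (lall (memL L) [8, 1, 8]) = true := by decide +kernel

theorem rot1_6 : T.rot 1 [9, 1, 9] (sel (ones 1024) ip1 6) = true := by decide +kernel

theorem rot1_6r : band (Rule.ok (2 * 10) EX RL ⟨1 :: [9, 1, 9], [], 7, false⟩) (lall (memL L) [9, 1, 9]) = true := by decide +kernel

theorem rot1_7 : T.rot 1 [10, 1, 10] (sel (ones 1024) ip1 7) = true := by decide +kernel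

theorem rot1_7r : band (Rule.ok (2 * 10) EX RL ⟨1 :: [10, 1, 10], [], 8, false⟩) (lall (memL L) [10, 1, 10]) = true := by decide +kernel

theorem rot1_8 : T.rot 1 [5, 1, 2, 5] (sel (ones 1024) ip1 8) = true := by decide +kernel

theorem rot1_8r : band (Rule.ok (2 * 10) EX RL ⟨1 :: [5, 1, 2, 5], [2, 8], 3, true⟩) (lall (memL L) [5, 1, 2, 5]) = true := by decide +kernel

theorem rot1_9 : T.rot 1 [2, 5, 1, 5] (sel (ones 1024) ip1 9) = true := by decide +kernel

theorem rot1_9r : band (Rule.ok (2 * 10) EX RL ⟨1 :: [2, 5, 1, 5], [0], 3, true⟩) (lall (memL L) [2, 5, 1, 5]) = true := by decide +kernel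

theorem rot1_10 : T.rot 1 [5, 1, 5, 2] (sel (ones 1024) ip1 10) = true := by decide +kernel

theorem rot1_10r : band (Rule.ok (2 * 10) EX RL ⟨1 :: [5, 1, 5, 2], [], 3, false⟩) (lall (memL L) [5, 1, 5, 2]) = true := by decide +kernel

theorem rot1_11 : T.rot 1 [5, 2, 1, 5] (sel (ones 1024) ip1 11) = true := by decide +kernel

theorem rot1_11r : band (Rule.ok (2 * 10) EX RL ⟨1 :: [5, 2, 1, 5], [0, 8], 3, false⟩) (lall (memL L) [5, 2, 1, 5]) = true := by decide +kernel

theorem rot1_12 : T.rot 1 [6, 1, 3, 6] (sel (ones 1024) ip1 12) = true := by decide +kernel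

theorem rot1_12r : band (Rule.ok (2 * 10) EX RL ⟨1 :: [6, 1, 3, 6], [4, 10], 4, true⟩) (lall (memL L) [6, 1, 3, 6]) = true := by decide +kernel

theorem rot1_13 : T.rot 1 [3, 6, 1, 6] (sel (ones 1024) ip1 13) = true := by decide +kernel

theorem rot1_13r : band (Rule.ok (2 * 10) EX RL ⟨1 :: [3, 6, 1, 6], [0], 4, true⟩) (lall (memL L) [3, 6, 1, 6]) = true := by decide +kernel

theorem rot1_14 : T.rot 1 [6, 1, 6, 3] (sel (ones 1024) ip1 14) = true := by decide +kernel

theorem rot1_14r : band (Rule.ok (2 * 10) EX RL ⟨1 :: [6, 1, 6, 3], [], 4, false⟩) (lall (memL L) [6, 1, 6, 3]) = true := by decide +kernel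

theorem rot1_15 : T.rot 1 [6, 3, 1, 6] (sel (ones 1024) ip1 15) = true := by decide +kernel

theorem rot1_15r : band (Rule.ok (2 * 10) EX RL ⟨1 :: [6, 3, 1, 6], [0, 10], 4, false⟩) (lall (memL L) [6, 3, 1, 6]) = true := by decide +kernel

theorem rot1_16 : T.rot 1 [7, 1, 4, 7] (sel (ones 1024) ip1 16) = true := by decide +kernel

theorem rot1_16r : band (Rule.ok (2 * 10) EX RL ⟨1 :: [7, 1, 4, 7], [6, 12], 5, true⟩) (lall (memL L) [7, 1, 4, 7]) = true := by decide +kernel

theorem rot1_17 : T.rot 1 [4, 7, 1, 7] (sel (ones 1024) ip1 17) = true := by decide +kernel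

theorem rot1_17r : band (Rule.ok (2 * 10) EX RL ⟨1 :: [4, 7, 1, 7], [0], 5, true⟩) (lall (memL L) [4, 7, 1, 7]) = true := by decide +kernel

theorem rot1_18 : T.rot 1 [7, 1, 7, 4] (sel (ones 1024) ip1 18) = true := by decide +kernel

theorem rot1_18r : band (Rule.ok (2 * 10) EX RL ⟨1 :: [7, 1, 7, 4], [], 5, false⟩) (lall (memL L) [7, 1, 7, 4]) = true := by decide +kernel

theorem rot1_19 : T.rot 1 [7, 4, 1, 7] (sel (ones 1024) ip1 19) = true := by decide +kernel

theorem rot1_19r : band (Rule.ok (2 * 10) EX RL ⟨1 :: [7, 4, 1, 7], [0, 12], 5, false⟩) (lall (memL L) [7, 4, 1, 7]) = true := by decide +kernel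

theorem cov1 : T.cover 1 [(sel (ones 1024) ip1 1), (sel (ones 1024) ip1 2), (sel (ones 1024) ip1 3), (sel (ones 1024) ip1 4), (sel (ones 1024) ip1 5), (sel (ones 1024) ip1 6), (sel (ones 1024) ip1 7), (sel (ones 1024) ip1 8), (sel (ones 1024) ip1 9), (sel (ones 1024) ip1 10), (sel (ones 1024) ip1 11), (sel (ones 1024) ip1 12), (sel (ones 1024) ip1 13), (sel (ones 1024) ip1 14), (sel (ones 1024) ip1 15), (sel (ones 1024) ip1 16), (sel (ones 1024) ip1 17), (sel (ones 1024) ip1 18), (sel (ones 1024) ip1 19)] = true := by decide +kernel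

theorem tl1 : T.treeLt 10 1 = true := by decide +kernel

theorem rot2_1 : T.rot 2 [2] (sel (ones 1024) ip2 1) = true := by decide +kernel

theorem rot2_1r : band (Rule.ok (2 * 10) EX RL ⟨2 :: [2], [], 45, false⟩) (lall (memL L) [2]) = true := by decide +kernel

theorem rot2_2 : T.rot 2 [1, 2, 1] (sel (ones 1024) ip2 2) = true := by decide +kernel

theorem rot2_2r : band (Rule.ok (2 * 10) EX RL ⟨2 :: [1, 2, 1], [], 0, true⟩) (lall (memL L) [1, 2, 1]) = true := by decide +kernel

theorem rot2_3 : T.rot 2 [3, 2, 3] (sel (ones 1024) ip2 3) = true := by decide +kernel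

theorem rot2_3r : band (Rule.ok (2 * 10) EX RL ⟨2 :: [3, 2, 3], [], 9, false⟩) (lall (memL L) [3, 2, 3]) = true := by decide +kernel

theorem rot2_4 : T.rot 2 [4, 2, 4] (sel (ones 1024) ip2 4) = true := by decide +kernel

theorem rot2_4r : band (Rule.ok (2 * 10) EX RL ⟨2 :: [4, 2, 4], [], 10, false⟩) (lall (memL L) [4, 2, 4]) = true := by decide +kernel

theorem rot2_5 : T.rot 2 [5, 2, 5] (sel (ones 1024) ip2 5) = true := by decide +kernel

theorem rot2_5r : band (Rule.ok (2 * 10) EX RL ⟨2 :: [5, 2, 5], [], 11, false⟩) (lall (memL L) [5, 2, 5]) = true := by decide +kernel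

theorem rot2_6 : T.rot 2 [6, 2, 6] (sel (ones 1024) ip2 6) = true := by decide +kernel

theorem rot2_6r : band (Rule.ok (2 * 10) EX RL ⟨2 :: [6, 2, 6], [], 12, false⟩) (lall (memL L) [6, 2, 6]) = true := by decide +kernel

theorem rot2_7 : T.rot 2 [7, 2, 7] (sel (ones 1024) ip2 7) = true := by decide +kernel

theorem rot2_7r : band (Rule.ok (2 * 10) EX RL ⟨2 :: [7, 2, 7], [], 13, false⟩) (lall (memL L) [7, 2, 7]) = true := by decide +kernel

theorem rot2_8 : T.rot 2 [10, 2, 10] (sel (ones 1024) ip2 8) = true := by decide +kernel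

theorem rot2_8r : band (Rule.ok (2 * 10) EX RL ⟨2 :: [10, 2, 10], [], 16, false⟩) (lall (memL L) [10, 2, 10]) = true := by decide +kernel

theorem rot2_9 : T.rot 2 [5, 1, 5, 1] (sel (ones 1024) ip2 9) = true := by decide +kernel

theorem rot2_9r : band (Rule.ok (2 * 10) EX RL ⟨2 :: [5, 1, 5, 1], [], 3, true⟩) (lall (memL L) [5, 1, 5, 1]) = true := by decide +kernel

theorem rot2_10 : T.rot 2 [1, 5, 1, 5] (sel (ones 1024) ip2 10) = true := by decide +kernel

theorem rot2_10r : band (Rule.ok (2 * 10) EX RL ⟨2 :: [1, 5, 1, 5], [2], 3, false⟩) (lall (memL L) [1, 5, 1, 5]) = true := by decide +kernel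

theorem rot2_11 : T.rot 2 [8, 2, 3, 8] (sel (ones 1024) ip2 11) = true := by decide +kernel

theorem rot2_11r : band (Rule.ok (2 * 10) EX RL ⟨2 :: [8, 2, 3, 8], [4, 14], 14, true⟩) (lall (memL L) [8, 2, 3, 8]) = true := by decide +kernel

theorem rot2_12 : T.rot 2 [3, 8, 2, 8] (sel (ones 1024) ip2 12) = true := by decide +kernel

theorem rot2_12r : band (Rule.ok (2 * 10) EX RL ⟨2 :: [3, 8, 2, 8], [2], 14, true⟩) (lall (memL L) [3, 8, 2, 8]) = true := by decide +kernel

theorem rot2_13 : T.rot 2 [8, 2, 8, 3] (sel (ones 1024) ip2 13) = true := by decide +kernel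

theorem rot2_13r : band (Rule.ok (2 * 10) EX RL ⟨2 :: [8, 2, 8, 3], [], 14, false⟩) (lall (memL L) [8, 2, 8, 3]) = true := by decide +kernel

theorem rot2_14 : T.rot 2 [8, 3, 2, 8] (sel (ones 1024) ip2 14) = true := by decide +kernel

theorem rot2_14r : band (Rule.ok (2 * 10) EX RL ⟨2 :: [8, 3, 2, 8], [2, 14], 14, false⟩) (lall (memL L) [8, 3, 2, 8]) = true := by decide +kernel

theorem rot2_15 : T.rot 2 [9, 2, 4, 9] (sel (ones 1024) ip2 15) = true := by decide +kernel

theorem rot2_15r : band (Rule.ok (2 * 10) EX RL ⟨2 :: [9, 2, 4, 9], [6, 16], 15, true⟩) (lall (memL L) [9, 2, 4, 9]) = true := by decide +kernel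

theorem rot2_16 : T.rot 2 [4, 9, 2, 9] (sel (ones 1024) ip2 16) = true := by decide +kernel

theorem rot2_16r : band (Rule.ok (2 * 10) EX RL ⟨2 :: [4, 9, 2, 9], [2], 15, true⟩) (lall (memL L) [4, 9, 2, 9]) = true := by decide +kernel

theorem rot2_17 : T.rot 2 [9, 4, 2, 9] (sel (ones 1024) ip2 17) = true := by decide +kernel

theorem rot2_17r : band (Rule.ok (2 * 10) EX RL ⟨2 :: [9, 4, 2, 9], [2, 16], 15, false⟩) (lall (memL L) [9, 4, 2, 9]) = true := by decide +kernel

theorem cov2 : T.cover 2 [(sel (ones 1024) ip2 1), (sel (ones 1024) ip2 2), (sel (ones 1024) ip2 3), (sel (ones 1024) ip2 4), (sel (ones 1024) ip2 5), (sel (ones 1024) ip2 6), (sel (ones 1024) ip2 7), (sel (ones 1024) ip2 8), (sel (ones 1024) ip2 9), (sel (ones 1024) ip2 10), (sel (ones 1024) ip2 11), (sel (ones 1024) ip2 12), (sel (ones 1024) ip2 13), (sel (ones 1024) ip2 14), (sel (ones 1024) ip2 15), (sel (ones 1024) ip2 16), (sel (ones 1024) ip2 17)] = true := by decide +kernel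

theorem tl2 : T.treeLt 10 2 = true := by decide +kernel

theorem rot3_1 : T.rot 3 [3] (sel (ones 1024) ip3 1) = true := by decide +kernel

theorem rot3_1r : band (Rule.ok (2 * 10) EX RL ⟨3 :: [3], [], 45, false⟩) (lall (memL L) [3]) = true := by decide +kernel

theorem rot3_2 : T.rot 3 [1, 3, 1] (sel (ones 1024) ip3 2) = true := by decide +kernel

theorem rot3_2r : band (Rule.ok (2 * 10) EX RL ⟨3 :: [1, 3, 1], [], 1, true⟩) (lall (memL L) [1, 3, 1]) = true := by decide +kernel

theorem rot3_3 : T.rot 3 [2, 3, 2] (sel (ones 1024) ip3 3) = true := by decide +kernel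

theorem rot3_3r : band (Rule.ok (2 * 10) EX RL ⟨3 :: [2, 3, 2], [], 9, true⟩) (lall (memL L) [2, 3, 2]) = true := by decide +kernel

theorem rot3_4 : T.rot 3 [4, 3, 4] (sel (ones 1024) ip3 4) = true := by decide +kernel

theorem rot3_4r : band (Rule.ok (2 * 10) EX RL ⟨3 :: [4, 3, 4], [], 17, false⟩) (lall (memL L) [4, 3, 4]) = true := by decide +kernel

theorem rot3_5 : T.rot 3 [5, 3, 5] (sel (ones 1024) ip3 5) = true := by decide +kernel

theorem rot3_5r : band (Rule.ok (2 * 10) EX RL ⟨3 :: [5, 3, 5], [], 18, false⟩) (lall (memL L) [5, 3, 5]) = true := by decide +kernel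

theorem rot3_6 : T.rot 3 [6, 3, 6] (sel (ones 1024) ip3 6) = true := by decide +kernel

theorem rot3_6r : band (Rule.ok (2 * 10) EX RL ⟨3 :: [6, 3, 6], [], 19, false⟩) (lall (memL L) [6, 3, 6]) = true := by decide +kernel

theorem rot3_7 : T.rot 3 [7, 3, 7] (sel (ones 1024) ip3 7) = true := by decide +kernel

theorem rot3_7r : band (Rule.ok (2 * 10) EX RL ⟨3 :: [7, 3, 7], [], 20, false⟩) (lall (memL L) [7, 3, 7]) = true := by decide +kernel

theorem rot3_8 : T.rot 3 [8, 3, 8] (sel (ones 1024) ip3 8) = true := by decide +kernel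

theorem rot3_8r : band (Rule.ok (2 * 10) EX RL ⟨3 :: [8, 3, 8], [], 21, false⟩) (lall (memL L) [8, 3, 8]) = true := by decide +kernel

theorem rot3_9 : T.rot 3 [9, 3, 9] (sel (ones 1024) ip3 9) = true := by decide +kernel

theorem rot3_9r : band (Rule.ok (2 * 10) EX RL ⟨3 :: [9, 3, 9], [], 22, false⟩) (lall (memL L) [9, 3, 9]) = true := by decide +kernel

theorem rot3_10 : T.rot 3 [6, 1, 6, 1] (sel (ones 1024) ip3 10) = true := by decide +kernel

theorem rot3_10r : band (Rule.ok (2 * 10) EX RL ⟨3 :: [6, 1, 6, 1], [], 4, true⟩) (lall (memL L) [6, 1, 6, 1]) = true := by decide +kernel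

theorem rot3_11 : T.rot 3 [1, 6, 1, 6] (sel (ones 1024) ip3 11) = true := by decide +kernel

theorem rot3_11r : band (Rule.ok (2 * 10) EX RL ⟨3 :: [1, 6, 1, 6], [4], 4, false⟩) (lall (memL L) [1, 6, 1, 6]) = true := by decide +kernel

theorem rot3_12 : T.rot 3 [8, 2, 8, 2] (sel (ones 1024) ip3 12) = true := by decide +kernel

theorem rot3_12r : band (Rule.ok (2 * 10) EX RL ⟨3 :: [8, 2, 8, 2], [], 14, true⟩) (lall (memL L) [8, 2, 8, 2]) = true := by decide +kernel

theorem rot3_13 : T.rot 3 [2, 8, 2, 8] (sel (ones 1024) ip3 13) = true := by decide +kernel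

theorem rot3_13r : band (Rule.ok (2 * 10) EX RL ⟨3 :: [2, 8, 2, 8], [4], 14, false⟩) (lall (memL L) [2, 8, 2, 8]) = true := by decide +kernel

theorem rot3_14 : T.rot 3 [10, 3, 4, 10] (sel (ones 1024) ip3 14) = true := by decide +kernel

theorem rot3_14r : band (Rule.ok (2 * 10) EX RL ⟨3 :: [10, 3, 4, 10], [6, 18], 23, true⟩) (lall (memL L) [10, 3, 4, 10]) = true := by decide +kernel

theorem rot3_15 : T.rot 3 [4, 10, 3, 10] (sel (ones 1024) ip3 15) = true := by decide +kernel

theorem rot3_15r : band (Rule.ok (2 * 10) EX RL ⟨3 :: [4, 10, 3, 10], [4], 23, true⟩) (lall (memL L) [4, 10, 3, 10]) = true := by decide +kernel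

theorem rot3_16 : T.rot 3 [10, 3, 10, 4] (sel (ones 1024) ip3 16) = true := by decide +kernel

theorem rot3_16r : band (Rule.ok (2 * 10) EX RL ⟨3 :: [10, 3, 10, 4], [], 23, false⟩) (lall (memL L) [10, 3, 10, 4]) = true := by decide +kernel

theorem rot3_17 : T.rot 3 [10, 4, 3, 10] (sel (ones 1024) ip3 17) = true := by decide +kernel

theorem rot3_17r : band (Rule.ok (2 * 10) EX RL ⟨3 :: [10, 4, 3, 10], [4, 18], 23, false⟩) (lall (memL L) [10, 4, 3, 10]) = true := by decide +kernel

theorem cov3 : T.cover 3 [(sel (ones 1024) ip3 1), (sel (ones 1024) ip3 2), (sel (ones 1024) ip3 3), (sel (ones 1024) ip3 4), (sel (ones 1024) ip3 5), (sel (ones 1024) ip3 6), (sel (ones 1024) ip3 7), (sel (ones 1024) ip3 8), (sel (ones 1024) ip3 9), (sel (ones 1024) ip3 10), (sel (ones 1024) ip3 11), (sel (ones 1024) ip3 12), (sel (ones 1024) ip3 13), (sel (ones 1024) ip3 14), (sel (ones 1024) ip3 15), (sel (ones 1024) ip3 16), (sel (ones 1024) ip3 17)] = true := by decide +kernel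

theorem tl3 : T.treeLt 10 3 = true := by decide +kernel

theorem rot4_1 : T.rot 4 [4] (sel (ones 1024) ip4 1) = true := by decide +kernel

theorem rot4_1r : band (Rule.ok (2 * 10) EX RL ⟨4 :: [4], [], 45, false⟩) (lall (memL L) [4]) = true := by decide +kernel

theorem rot4_2 : T.rot 4 [1, 4, 1] (sel (ones 1024) ip4 2) = true := by decide +kernel

theorem rot4_2r : band (Rule.ok (2 * 10) EX RL ⟨4 :: [1, 4, 1], [], 2, true⟩) (lall (memL L) [1, 4, 1]) = true := by decide +kernel

theorem rot4_3 : T.rot 4 [2, 4, 2] (sel (ones 1024) ip4 3) = true := by decide +kernel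

theorem rot4_3r : band (Rule.ok (2 * 10) EX RL ⟨4 :: [2, 4, 2], [], 10, true⟩) (lall (memL L) [2, 4, 2]) = true := by decide +kernel

theorem rot4_4 : T.rot 4 [3, 4, 3] (sel (ones 1024) ip4 4) = true := by decide +kernel

theorem rot4_4r : band (Rule.ok (2 * 10) EX RL ⟨4 :: [3, 4, 3], [], 17, true⟩) (lall (memL L) [3, 4, 3]) = true := by decide +kernel

theorem rot4_5 : T.rot 4 [5, 4, 5] (sel (ones 1024) ip4 5) = true := by decide +kernel

theorem rot4_5r : band (Rule.ok (2 * 10) EX RL ⟨4 :: [5, 4, 5], [], 24, false⟩) (lall (memL L) [5, 4, 5]) = true := by decide +kernel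

theorem rot4_6 : T.rot 4 [6, 4, 6] (sel (ones 1024) ip4 6) = true := by decide +kernel

theorem rot4_6r : band (Rule.ok (2 * 10) EX RL ⟨4 :: [6, 4, 6], [], 25, false⟩) (lall (memL L) [6, 4, 6]) = true := by decide +kernel

theorem rot4_7 : T.rot 4 [7, 4, 7] (sel (ones 1024) ip4 7) = true := by decide +kernel

theorem rot4_7r : band (Rule.ok (2 * 10) EX RL ⟨4 :: [7, 4, 7], [], 26, false⟩) (lall (memL L) [7, 4, 7]) = true := by decide +kernel

theorem rot4_8 : T.rot 4 [8, 4, 8] (sel (ones 1024) ip4 8) = true := by decide +kernel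

theorem rot4_8r : band (Rule.ok (2 * 10) EX RL ⟨4 :: [8, 4, 8], [], 27, false⟩) (lall (memL L) [8, 4, 8]) = true := by decide +kernel

theorem rot4_9 : T.rot 4 [9, 4, 9] (sel (ones 1024) ip4 9) = true := by decide +kernel

theorem rot4_9r : band (Rule.ok (2 * 10) EX RL ⟨4 :: [9, 4, 9], [], 28, false⟩) (lall (memL L) [9, 4, 9]) = true := by decide +kernel

theorem rot4_10 : T.rot 4 [10, 4, 10] (sel (ones 1024) ip4 10) = true := by decide +kernel

theorem rot4_10r : band (Rule.ok (2 * 10) EX RL ⟨4 :: [10, 4, 10], [], 29, false⟩) (lall (memL L) [10, 4, 10]) = true := by decide +kernel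

theorem rot4_11 : T.rot 4 [7, 1, 7, 1] (sel (ones 1024) ip4 11) = true := by decide +kernel

theorem rot4_11r : band (Rule.ok (2 * 10) EX RL ⟨4 :: [7, 1, 7, 1], [], 5, true⟩) (lall (memL L) [7, 1, 7, 1]) = true := by decide +kernel

theorem rot4_12 : T.rot 4 [1, 7, 1, 7] (sel (ones 1024) ip4 12) = true := by decide +kernel

theorem rot4_12r : band (Rule.ok (2 * 10) EX RL ⟨4 :: [1, 7, 1, 7], [6], 5, false⟩) (lall (memL L) [1, 7, 1, 7]) = true := by decide +kernel

theorem rot4_13 : T.rot 4 [9, 2, 9, 2] (sel (ones 1024) ip4 13) = true := by decide +kernel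

theorem rot4_13r : band (Rule.ok (2 * 10) EX RL ⟨4 :: [9, 2, 9, 2], [], 15, true⟩) (lall (memL L) [9, 2, 9, 2]) = true := by decide +kernel

theorem rot4_14 : T.rot 4 [2, 9, 2, 9] (sel (ones 1024) ip4 14) = true := by decide +kernel

theorem rot4_14r : band (Rule.ok (2 * 10) EX RL ⟨4 :: [2, 9, 2, 9], [6], 15, false⟩) (lall (memL L) [2, 9, 2, 9]) = true := by decide +kernel

theorem rot4_15 : T.rot 4 [10, 3, 10, 3] (sel (ones 1024) ip4 15) = true := by decide +kernel

theorem rot4_15r : band (Rule.ok (2 * 10) EX RL ⟨4 :: [10, 3, 10, 3], [], 23, true⟩) (lall (memL L) [10, 3, 10, 3]) = true := by decide +kernel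

theorem rot4_16 : T.rot 4 [3, 10, 3, 10] (sel (ones 1024) ip4 16) = true := by decide +kernel

theorem rot4_16r : band (Rule.ok (2 * 10) EX RL ⟨4 :: [3, 10, 3, 10], [6], 23, false⟩) (lall (memL L) [3, 10, 3, 10]) = true := by decide +kernel

theorem cov4 : T.cover 4 [(sel (ones 1024) ip4 1), (sel (ones 1024) ip4 2), (sel (ones 1024) ip4 3), (sel (ones 1024) ip4 4), (sel (ones 1024) ip4 5), (sel (ones 1024) ip4 6), (sel (ones 1024) ip4 7), (sel (ones 1024) ip4 8), (sel (ones 1024) ip4 9), (sel (ones 1024) ip4 10), (sel (ones 1024) ip4 11), (sel (ones 1024) ip4 12), (sel (ones 1024) ip4 13), (sel (ones 1024) ip4 14), (sel (ones 1024) ip4 15), (sel (ones 1024) ip4 16)] = true := by decide +kernel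

theorem tl4 : T.treeLt 10 4 = true := by decide +kernel

theorem rot5_1 : T.rot 5 [5] (sel (ones 1024) ip5 1) = true := by decide +kernel

theorem rot5_1r : band (Rule.ok (2 * 10) EX RL ⟨5 :: [5], [], 45, false⟩) (lall (memL L) [5]) = true := by decide +kernel

theorem rot5_2 : T.rot 5 [2, 5, 2] (sel (ones 1024) ip5 2) = true := by decide +kernel

theorem rot5_2r : band (Rule.ok (2 * 10) EX RL ⟨5 :: [2, 5, 2], [], 11, true⟩) (lall (memL L) [2, 5, 2]) = true := by decide +kernel

theorem rot5_3 : T.rot 5 [3, 5, 3] (sel (ones 1024) ip5 3) = true := by decide +kernel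

theorem rot5_3r : band (Rule.ok (2 * 10) EX RL ⟨5 :: [3, 5, 3], [], 18, true⟩) (lall (memL L) [3, 5, 3]) = true := by decide +kernel

theorem rot5_4 : T.rot 5 [4, 5, 4] (sel (ones 1024) ip5 4) = true := by decide +kernel

theorem rot5_4r : band (Rule.ok (2 * 10) EX RL ⟨5 :: [4, 5, 4], [], 24, true⟩) (lall (memL L) [4, 5, 4]) = true := by decide +kernel

theorem rot5_5 : T.rot 5 [6, 5, 6] (sel (ones 1024) ip5 5) = true := by decide +kernel

theorem rot5_5r : band (Rule.ok (2 * 10) EX RL ⟨5 :: [6, 5, 6], [], 30, false⟩) (lall (memL L) [6, 5, 6]) = true := by decide +kernel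

theorem rot5_6 : T.rot 5 [7, 5, 7] (sel (ones 1024) ip5 6) = true := by decide +kernel

theorem rot5_6r : band (Rule.ok (2 * 10) EX RL ⟨5 :: [7, 5, 7], [], 31, false⟩) (lall (memL L) [7, 5, 7]) = true := by decide +kernel

theorem rot5_7 : T.rot 5 [10, 5, 10] (sel (ones 1024) ip5 7) = true := by decide +kernel

theorem rot5_7r : band (Rule.ok (2 * 10) EX RL ⟨5 :: [10, 5, 10], [], 34, false⟩) (lall (memL L) [10, 5, 10]) = true := by decide +kernel

theorem rot5_8 : T.rot 5 [1, 5, 1, 2] (sel (ones 1024) ip5 8) = true := by decide +kernel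

theorem rot5_8r : band (Rule.ok (2 * 10) EX RL ⟨5 :: [1, 5, 1, 2], [2], 3, true⟩) (lall (memL L) [1, 5, 1, 2]) = true := by decide +kernel

theorem rot5_9 : T.rot 5 [1, 2, 5, 1] (sel (ones 1024) ip5 9) = true := by decide +kernel

theorem rot5_9r : band (Rule.ok (2 * 10) EX RL ⟨5 :: [1, 2, 5, 1], [0, 8], 3, true⟩) (lall (memL L) [1, 2, 5, 1]) = true := by decide +kernel

theorem rot5_10 : T.rot 5 [1, 5, 2, 1] (sel (ones 1024) ip5 10) = true := by decide +kernel

theorem rot5_10r : band (Rule.ok (2 * 10) EX RL ⟨5 :: [1, 5, 2, 1], [0], 3, false⟩) (lall (memL L) [1, 5, 2, 1]) = true := by decide +kernel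

theorem rot5_11 : T.rot 5 [2, 1, 5, 1] (sel (ones 1024) ip5 11) = true := by decide +kernel

theorem rot5_11r : band (Rule.ok (2 * 10) EX RL ⟨5 :: [2, 1, 5, 1], [2, 8], 3, false⟩) (lall (memL L) [2, 1, 5, 1]) = true := by decide +kernel

theorem rot5_12 : T.rot 5 [8, 5, 6, 8] (sel (ones 1024) ip5 12) = true := by decide +kernel

theorem rot5_12r : band (Rule.ok (2 * 10) EX RL ⟨5 :: [8, 5, 6, 8], [10, 14], 32, true⟩) (lall (memL L) [8, 5, 6, 8]) = true := by decide +kernel

theorem rot5_13 : T.rot 5 [6, 8, 5, 8] (sel (ones 1024) ip5 13) = true := by decide +kernel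

theorem rot5_13r : band (Rule.ok (2 * 10) EX RL ⟨5 :: [6, 8, 5, 8], [8], 32, true⟩) (lall (memL L) [6, 8, 5, 8]) = true := by decide +kernel

theorem rot5_14 : T.rot 5 [8, 5, 8, 6] (sel (ones 1024) ip5 14) = true := by decide +kernel

theorem rot5_14r : band (Rule.ok (2 * 10) EX RL ⟨5 :: [8, 5, 8, 6], [], 32, false⟩) (lall (memL L) [8, 5, 8, 6]) = true := by decide +kernel

theorem rot5_15 : T.rot 5 [8, 6, 5, 8] (sel (ones 1024) ip5 15) = true := by decide +kernel

theorem rot5_15r : band (Rule.ok (2 * 10) EX RL ⟨5 :: [8, 6, 5, 8], [8, 14], 32, false⟩) (lall (memL L) [8, 6, 5, 8]) = true := by decide +kernel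

theorem rot5_16 : T.rot 5 [9, 5, 7, 9] (sel (ones 1024) ip5 16) = true := by decide +kernel

theorem rot5_16r : band (Rule.ok (2 * 10) EX RL ⟨5 :: [9, 5, 7, 9], [12, 16], 33, true⟩) (lall (memL L) [9, 5, 7, 9]) = true := by decide +kernel

theorem rot5_17 : T.rot 5 [7, 9, 5, 9] (sel (ones 1024) ip5 17) = true := by decide +kernel

theorem rot5_17r : band (Rule.ok (2 * 10) EX RL ⟨5 :: [7, 9, 5, 9], [8], 33, true⟩) (lall (memL L) [7, 9, 5, 9]) = true := by decide +kernel

theorem rot5_18 : T.rot 5 [9, 5, 9, 7] (sel (ones 1024) ip5 18) = true := by decide +kernel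

theorem rot5_18r : band (Rule.ok (2 * 10) EX RL ⟨5 :: [9, 5, 9, 7], [], 33, false⟩) (lall (memL L) [9, 5, 9, 7]) = true := by decide +kernel

theorem rot5_19 : T.rot 5 [9, 7, 5, 9] (sel (ones 1024) ip5 19) = true := by decide +kernel

theorem rot5_19r : band (Rule.ok (2 * 10) EX RL ⟨5 :: [9, 7, 5, 9], [8, 16], 33, false⟩) (lall (memL L) [9, 7, 5, 9]) = true := by decide +kernel

theorem cov5 : T.cover 5 [(sel (ones 1024) ip5 1), (sel (ones 1024) ip5 2), (sel (ones 1024) ip5 3), (sel (ones 1024) ip5 4), (sel (ones 1024) ip5 5), (sel (ones 1024) ip5 6), (sel (ones 1024) ip5 7), (sel (ones 1024) ip5 8), (sel (ones 1024) ip5 9), (sel (ones 1024) ip5 10), (sel (ones 1024) ip5 11), (sel (ones 1024) ip5 12), (sel (ones 1024) ip5 13), (sel (ones 1024) ip5 14), (sel (ones 1024) ip5 15), (sel (ones 1024) ip5 16), (sel (ones 1024) ip5 17), (sel (ones 1024) ip5 18), (sel (ones 1024) ip5 19)] = true := by decide +kernel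

theorem tl5 : T.treeLt 10 5 = true := by decide +kernel

theorem rot6_1 : T.rot 6 [6] (sel (ones 1024) ip6 1) = true := by decide +kernel

theorem rot6_1r : band (Rule.ok (2 * 10) EX RL ⟨6 :: [6], [], 45, false⟩) (lall (memL L) [6]) = true := by decide +kernel

theorem rot6_2 : T.rot 6 [2, 6, 2] (sel (ones 1024) ip6 2) = true := by decide +kernel

theorem rot6_2r : band (Rule.ok (2 * 10) EX RL ⟨6 :: [2, 6, 2], [], 12, true⟩) (lall (memL L) [2, 6, 2]) = true := by decide +kernel

theorem rot6_3 : T.rot 6 [3, 6, 3] (sel (ones 1024) ip6 3) = true := by decide +kernel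

theorem rot6_3r : band (Rule.ok (2 * 10) EX RL ⟨6 :: [3, 6, 3], [], 19, true⟩) (lall (memL L) [3, 6, 3]) = true := by decide +kernel

theorem rot6_4 : T.rot 6 [4, 6, 4] (sel (ones 1024) ip6 4) = true := by decide +kernel

theorem rot6_4r : band (Rule.ok (2 * 10) EX RL ⟨6 :: [4, 6, 4], [], 25, true⟩) (lall (memL L) [4, 6, 4]) = true := by decide +kernel

theorem rot6_5 : T.rot 6 [5, 6, 5] (sel (ones 1024) ip6 5) = true := by decide +kernel

theorem rot6_5r : band (Rule.ok (2 * 10) EX RL ⟨6 :: [5, 6, 5], [], 30, true⟩) (lall (memL L) [5, 6, 5]) = true := by decide +kernel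

theorem rot6_6 : T.rot 6 [7, 6, 7] (sel (ones 1024) ip6 6) = true := by decide +kernel

theorem rot6_6r : band (Rule.ok (2 * 10) EX RL ⟨6 :: [7, 6, 7], [], 35, false⟩) (lall (memL L) [7, 6, 7]) = true := by decide +kernel

theorem rot6_7 : T.rot 6 [8, 6, 8] (sel (ones 1024) ip6 7) = true := by decide +kernel

theorem rot6_7r : band (Rule.ok (2 * 10) EX RL ⟨6 :: [8, 6, 8], [], 36, false⟩) (lall (memL L) [8, 6, 8]) = true := by decide +kernel

theorem rot6_8 : T.rot 6 [9, 6, 9] (sel (ones 1024) ip6 8) = true := by decide +kernel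

theorem rot6_8r : band (Rule.ok (2 * 10) EX RL ⟨6 :: [9, 6, 9], [], 37, false⟩) (lall (memL L) [9, 6, 9]) = true := by decide +kernel

theorem rot6_9 : T.rot 6 [1, 6, 1, 3] (sel (ones 1024) ip6 9) = true := by decide +kernel

theorem rot6_9r : band (Rule.ok (2 * 10) EX RL ⟨6 :: [1, 6, 1, 3], [4], 4, true⟩) (lall (memL L) [1, 6, 1, 3]) = true := by decide +kernel

theorem rot6_10 : T.rot 6 [1, 3, 6, 1] (sel (ones 1024) ip6 10) = true := by decide +kernel

theorem rot6_10r : band (Rule.ok (2 * 10) EX RL ⟨6 :: [1, 3, 6, 1], [0, 10], 4, true⟩) (lall (memL L) [1, 3, 6, 1]) = true := by decide +kernel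

theorem rot6_11 : T.rot 6 [1, 6, 3, 1] (sel (ones 1024) ip6 11) = true := by decide +kernel

theorem rot6_11r : band (Rule.ok (2 * 10) EX RL ⟨6 :: [1, 6, 3, 1], [0], 4, false⟩) (lall (memL L) [1, 6, 3, 1]) = true := by decide +kernel

theorem rot6_12 : T.rot 6 [3, 1, 6, 1] (sel (ones 1024) ip6 12) = true := by decide +kernel

theorem rot6_12r : band (Rule.ok (2 * 10) EX RL ⟨6 :: [3, 1, 6, 1], [4, 10], 4, false⟩) (lall (memL L) [3, 1, 6, 1]) = true := by decide +kernel

theorem rot6_13 : T.rot 6 [8, 5, 8, 5] (sel (ones 1024) ip6 13) = true := by decide +kernel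

theorem rot6_13r : band (Rule.ok (2 * 10) EX RL ⟨6 :: [8, 5, 8, 5], [], 32, true⟩) (lall (memL L) [8, 5, 8, 5]) = true := by decide +kernel

theorem rot6_14 : T.rot 6 [5, 8, 5, 8] (sel (ones 1024) ip6 14) = true := by decide +kernel

theorem rot6_14r : band (Rule.ok (2 * 10) EX RL ⟨6 :: [5, 8, 5, 8], [10], 32, false⟩) (lall (memL L) [5, 8, 5, 8]) = true := by decide +kernel

theorem rot6_15 : T.rot 6 [10, 6, 7, 10] (sel (ones 1024) ip6 15) = true := by decide +kernel

theorem rot6_15r : band (Rule.ok (2 * 10) EX RL ⟨6 :: [10, 6, 7, 10], [12, 18], 38, true⟩) (lall (memL L) [10, 6, 7, 10]) = true := by decide +kernel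

theorem rot6_16 : T.rot 6 [7, 10, 6, 10] (sel (ones 1024) ip6 16) = true := by decide +kernel

theorem rot6_16r : band (Rule.ok (2 * 10) EX RL ⟨6 :: [7, 10, 6, 10], [10], 38, true⟩) (lall (memL L) [7, 10, 6, 10]) = true := by decide +kernel

theorem rot6_17 : T.rot 6 [10, 6, 10, 7] (sel (ones 1024) ip6 17) = true := by decide +kernel

theorem rot6_17r : band (Rule.ok (2 * 10) EX RL ⟨6 :: [10, 6, 10, 7], [], 38, false⟩) (lall (memL L) [10, 6, 10, 7]) = true := by decide +kernel

theorem rot6_18 : T.rot 6 [10, 7, 6, 10] (sel (ones 1024) ip6 18) = true := by decide +kernel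

theorem rot6_18r : band (Rule.ok (2 * 10) EX RL ⟨6 :: [10, 7, 6, 10], [10, 18], 38, false⟩) (lall (memL L) [10, 7, 6, 10]) = true := by decide +kernel

theorem cov6 : T.cover 6 [(sel (ones 1024) ip6 1), (sel (ones 1024) ip6 2), (sel (ones 1024) ip6 3), (sel (ones 1024) ip6 4), (sel (ones 1024) ip6 5), (sel (ones 1024) ip6 6), (sel (ones 1024) ip6 7), (sel (ones 1024) ip6 8), (sel (ones 1024) ip6 9), (sel (ones 1024) ip6 10), (sel (ones 1024) ip6 11), (sel (ones 1024) ip6 12), (sel (ones 1024) ip6 13), (sel (ones 1024) ip6 14), (sel (ones 1024) ip6 15), (sel (ones 1024) ip6 16), (sel (ones 1024) ip6 17), (sel (ones 1024) ip6 18)] = true := by decide +kernel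

theorem tl6 : T.treeLt 10 6 = true := by decide +kernel

theorem rot7_1 : T.rot 7 [7] (sel (ones 1024) ip7 1) = true := by decide +kernel

theorem rot7_1r : band (Rule.ok (2 * 10) EX RL ⟨7 :: [7], [], 45, false⟩) (lall (memL L) [7]) = true := by decide +kernel

theorem rot7_2 : T.rot 7 [2, 7, 2] (sel (ones 1024) ip7 2) = true := by decide +kernel

theorem rot7_2r : band (Rule.ok (2 * 10) EX RL ⟨7 :: [2, 7, 2], [], 13, true⟩) (lall (memL L) [2, 7, 2]) = true := by decide +kernel

theorem rot7_3 : T.rot 7 [3, 7, 3] (sel (ones 1024) ip7 3) = true := by decide +kernel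

theorem rot7_3r : band (Rule.ok (2 * 10) EX RL ⟨7 :: [3, 7, 3], [], 20, true⟩) (lall (memL L) [3, 7, 3]) = true := by decide +kernel

theorem rot7_4 : T.rot 7 [5, 7, 5] (sel (ones 1024) ip7 4) = true := by decide +kernel

theorem rot7_4r : band (Rule.ok (2 * 10) EX RL ⟨7 :: [5, 7, 5], [], 31, true⟩) (lall (memL L) [5, 7, 5]) = true := by decide +kernel

theorem rot7_5 : T.rot 7 [6, 7, 6] (sel (ones 1024) ip7 5) = true := by decide +kernel

theorem rot7_5r : band (Rule.ok (2 * 10) EX RL ⟨7 :: [6, 7, 6], [], 35, true⟩) (lall (memL L) [6, 7, 6]) = true := by decide +kernel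

theorem rot7_6 : T.rot 7 [8, 7, 8] (sel (ones 1024) ip7 6) = true := by decide +kernel

theorem rot7_6r : band (Rule.ok (2 * 10) EX RL ⟨7 :: [8, 7, 8], [], 39, false⟩) (lall (memL L) [8, 7, 8]) = true := by decide +kernel

theorem rot7_7 : T.rot 7 [9, 7, 9] (sel (ones 1024) ip7 7) = true := by decide +kernel

theorem rot7_7r : band (Rule.ok (2 * 10) EX RL ⟨7 :: [9, 7, 9], [], 40, false⟩) (lall (memL L) [9, 7, 9]) = true := by decide +kernel

theorem rot7_8 : T.rot 7 [10, 7, 10] (sel (ones 1024) ip7 8) = true := by decide +kernel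

theorem rot7_8r : band (Rule.ok (2 * 10) EX RL ⟨7 :: [10, 7, 10], [], 41, false⟩) (lall (memL L) [10, 7, 10]) = true := by decide +kernel

theorem rot7_9 : T.rot 7 [1, 7, 1, 4] (sel (ones 1024) ip7 9) = true := by decide +kernel

theorem rot7_9r : band (Rule.ok (2 * 10) EX RL ⟨7 :: [1, 7, 1, 4], [6], 5, true⟩) (lall (memL L) [1, 7, 1, 4]) = true := by decide +kernel

theorem rot7_10 : T.rot 7 [1, 4, 7, 1] (sel (ones 1024) ip7 10) = true := by decide +kernel

theorem rot7_10r : band (Rule.ok (2 * 10) EX RL ⟨7 :: [1, 4, 7, 1], [0, 12], 5, true⟩) (lall (memL L) [1, 4, 7, 1]) = true := by decide +kernel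

theorem rot7_11 : T.rot 7 [1, 7, 4, 1] (sel (ones 1024) ip7 11) = true := by decide +kernel

theorem rot7_11r : band (Rule.ok (2 * 10) EX RL ⟨7 :: [1, 7, 4, 1], [0], 5, false⟩) (lall (memL L) [1, 7, 4, 1]) = true := by decide +kernel

theorem rot7_12 : T.rot 7 [4, 1, 7, 1] (sel (ones 1024) ip7 12) = true := by decide +kernel

theorem rot7_12r : band (Rule.ok (2 * 10) EX RL ⟨7 :: [4, 1, 7, 1], [6, 12], 5, false⟩) (lall (memL L) [4, 1, 7, 1]) = true := by decide +kernel

theorem rot7_13 : T.rot 7 [9, 5, 9, 5] (sel (ones 1024) ip7 13) = true := by decide +kernel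

theorem rot7_13r : band (Rule.ok (2 * 10) EX RL ⟨7 :: [9, 5, 9, 5], [], 33, true⟩) (lall (memL L) [9, 5, 9, 5]) = true := by decide +kernel

theorem rot7_14 : T.rot 7 [5, 9, 5, 9] (sel (ones 1024) ip7 14) = true := by decide +kernel

theorem rot7_14r : band (Rule.ok (2 * 10) EX RL ⟨7 :: [5, 9, 5, 9], [12], 33, false⟩) (lall (memL L) [5, 9, 5, 9]) = true := by decide +kernel

theorem rot7_15 : T.rot 7 [10, 6, 10, 6] (sel (ones 1024) ip7 15) = true := by decide +kernel

theorem rot7_15r : band (Rule.ok (2 * 10) EX RL ⟨7 :: [10, 6, 10, 6], [], 38, true⟩) (lall (memL L) [10, 6, 10, 6]) = true := by decide +kernel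

theorem rot7_16 : T.rot 7 [6, 10, 6, 10] (sel (ones 1024) ip7 16) = true := by decide +kernel

theorem rot7_16r : band (Rule.ok (2 * 10) EX RL ⟨7 :: [6, 10, 6, 10], [12], 38, false⟩) (lall (memL L) [6, 10, 6, 10]) = true := by decide +kernel

theorem cov7 : T.cover 7 [(sel (ones 1024) ip7 1), (sel (ones 1024) ip7 2), (sel (ones 1024) ip7 3), (sel (ones 1024) ip7 4), (sel (ones 1024) ip7 5), (sel (ones 1024) ip7 6), (sel (ones 1024) ip7 7), (sel (ones 1024) ip7 8), (sel (ones 1024) ip7 9), (sel (ones 1024) ip7 10), (sel (ones 1024) ip7 11), (sel (ones 1024) ip7 12), (sel (ones 1024) ip7 13), (sel (ones 1024) ip7 14), (sel (ones 1024) ip7 15), (sel (ones 1024) ip7 16)] = true := by decide +kernel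

theorem tl7 : T.treeLt 10 7 = true := by decide +kernel

theorem rot8_1 : T.rot 8 [8] (sel (ones 1024) ip8 1) = true := by decide +kernel

theorem rot8_1r : band (Rule.ok (2 * 10) EX RL ⟨8 :: [8], [], 45, false⟩) (lall (memL L) [8]) = true := by decide +kernel

theorem rot8_2 : T.rot 8 [1, 8, 1] (sel (ones 1024) ip8 2) = true := by decide +kernel

theorem rot8_2r : band (Rule.ok (2 * 10) EX RL ⟨8 :: [1, 8, 1], [], 6, true⟩) (lall (memL L) [1, 8, 1]) = true := by decide +kernel

theorem rot8_3 : T.rot 8 [3, 8, 3] (sel (ones 1024) ip8 3) = true := by decide +kernel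

theorem rot8_3r : band (Rule.ok (2 * 10) EX RL ⟨8 :: [3, 8, 3], [], 21, true⟩) (lall (memL L) [3, 8, 3]) = true := by decide +kernel

theorem rot8_4 : T.rot 8 [4, 8, 4] (sel (ones 1024) ip8 4) = true := by decide +kernel

theorem rot8_4r : band (Rule.ok (2 * 10) EX RL ⟨8 :: [4, 8, 4], [], 27, true⟩) (lall (memL L) [4, 8, 4]) = true := by decide +kernel

theorem rot8_5 : T.rot 8 [6, 8, 6] (sel (ones 1024) ip8 5) = true := by decide +kernel

theorem rot8_5r : band (Rule.ok (2 * 10) EX RL ⟨8 :: [6, 8, 6], [], 36, true⟩) (lall (memL L) [6, 8, 6]) = true := by decide +kernel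

theorem rot8_6 : T.rot 8 [7, 8, 7] (sel (ones 1024) ip8 6) = true := by decide +kernel

theorem rot8_6r : band (Rule.ok (2 * 10) EX RL ⟨8 :: [7, 8, 7], [], 39, true⟩) (lall (memL L) [7, 8, 7]) = true := by decide +kernel

theorem rot8_7 : T.rot 8 [9, 8, 9] (sel (ones 1024) ip8 7) = true := by decide +kernel

theorem rot8_7r : band (Rule.ok (2 * 10) EX RL ⟨8 :: [9, 8, 9], [], 42, false⟩) (lall (memL L) [9, 8, 9]) = true := by decide +kernel

theorem rot8_8 : T.rot 8 [2, 8, 2, 3] (sel (ones 1024) ip8 8) = true := by decide +kernel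

theorem rot8_8r : band (Rule.ok (2 * 10) EX RL ⟨8 :: [2, 8, 2, 3], [4], 14, true⟩) (lall (memL L) [2, 8, 2, 3]) = true := by decide +kernel

theorem rot8_9 : T.rot 8 [2, 3, 8, 2] (sel (ones 1024) ip8 9) = true := by decide +kernel

theorem rot8_9r : band (Rule.ok (2 * 10) EX RL ⟨8 :: [2, 3, 8, 2], [2, 14], 14, true⟩) (lall (memL L) [2, 3, 8, 2]) = true := by decide +kernel

theorem rot8_10 : T.rot 8 [2, 8, 3, 2] (sel (ones 1024) ip8 10) = true := by decide +kernel

theorem rot8_10r : band (Rule.ok (2 * 10) EX RL ⟨8 :: [2, 8, 3, 2], [2], 14, false⟩) (lall (memL L) [2, 8, 3, 2]) = true := by decide +kernel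

theorem rot8_11 : T.rot 8 [3, 2, 8, 2] (sel (ones 1024) ip8 11) = true := by decide +kernel

theorem rot8_11r : band (Rule.ok (2 * 10) EX RL ⟨8 :: [3, 2, 8, 2], [4, 14], 14, false⟩) (lall (memL L) [3, 2, 8, 2]) = true := by decide +kernel

theorem rot8_12 : T.rot 8 [5, 8, 5, 6] (sel (ones 1024) ip8 12) = true := by decide +kernel

theorem rot8_12r : band (Rule.ok (2 * 10) EX RL ⟨8 :: [5, 8, 5, 6], [10], 32, true⟩) (lall (memL L) [5, 8, 5, 6]) = true := by decide +kernel

theorem rot8_13 : T.rot 8 [5, 6, 8, 5] (sel (ones 1024) ip8 13) = true := by decide +kernel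

theorem rot8_13r : band (Rule.ok (2 * 10) EX RL ⟨8 :: [5, 6, 8, 5], [8, 14], 32, true⟩) (lall (memL L) [5, 6, 8, 5]) = true := by decide +kernel

theorem rot8_14 : T.rot 8 [5, 8, 6, 5] (sel (ones 1024) ip8 14) = true := by decide +kernel

theorem rot8_14r : band (Rule.ok (2 * 10) EX RL ⟨8 :: [5, 8, 6, 5], [8], 32, false⟩) (lall (memL L) [5, 8, 6, 5]) = true := by decide +kernel

theorem rot8_15 : T.rot 8 [6, 5, 8, 5] (sel (ones 1024) ip8 15) = true := by decide +kernel

theorem rot8_15r : band (Rule.ok (2 * 10) EX RL ⟨8 :: [6, 5, 8, 5], [10, 14], 32, false⟩) (lall (memL L) [6, 5, 8, 5]) = true := by decide +kernel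

theorem rot8_16 : T.rot 8 [10, 8, 9, 10] (sel (ones 1024) ip8 16) = true := by decide +kernel

theorem rot8_16r : band (Rule.ok (2 * 10) EX RL ⟨8 :: [10, 8, 9, 10], [16, 18], 43, true⟩) (lall (memL L) [10, 8, 9, 10]) = true := by decide +kernel

theorem rot8_17 : T.rot 8 [9, 10, 8, 10] (sel (ones 1024) ip8 17) = true := by decide +kernel

theorem rot8_17r : band (Rule.ok (2 * 10) EX RL ⟨8 :: [9, 10, 8, 10], [14], 43, true⟩) (lall (memL L) [9, 10, 8, 10]) = true := by decide +kernel

theorem rot8_18 : T.rot 8 [10, 8, 10, 9] (sel (ones 1024) ip8 18) = true := by decide +kernel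

theorem rot8_18r : band (Rule.ok (2 * 10) EX RL ⟨8 :: [10, 8, 10, 9], [], 43, false⟩) (lall (memL L) [10, 8, 10, 9]) = true := by decide +kernel

theorem rot8_19 : T.rot 8 [10, 9, 8, 10] (sel (ones 1024) ip8 19) = true := by decide +kernel

theorem rot8_19r : band (Rule.ok (2 * 10) EX RL ⟨8 :: [10, 9, 8, 10], [14, 18], 43, false⟩) (lall (memL L) [10, 9, 8, 10]) = true := by decide +kernel

theorem cov8 : T.cover 8 [(sel (ones 1024) ip8 1), (sel (ones 1024) ip8 2), (sel (ones 1024) ip8 3), (sel (ones 1024) ip8 4), (sel (ones 1024) ip8 5), (sel (ones 1024) ip8 6), (sel (ones 1024) ip8 7), (sel (ones 1024) ip8 8), (sel (ones 1024) ip8 9), (sel (ones 1024) ip8 10), (sel (ones 1024) ip8 11), (sel (ones 1024) ip8 12), (sel (ones 1024) ip8 13), (sel (ones 1024) ip8 14), (sel (ones 1024) ip8 15), (sel (ones 1024) ip8 16), (sel (ones 1024) ip8 17), (sel (ones 1024) ip8 18), (sel (ones 1024) ip8 19)] = true := by decide +kernel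

theorem tl8 : T.treeLt 10 8 = true := by decide +kernel

theorem rot9_1 : T.rot 9 [9] (sel (ones 1024) ip9 1) = true := by decide +kernel

theorem rot9_1r : band (Rule.ok (2 * 10) EX RL ⟨9 :: [9], [], 45, false⟩) (lall (memL L) [9]) = true := by decide +kernel

theorem rot9_2 : T.rot 9 [1, 9, 1] (sel (ones 1024) ip9 2) = true := by decide +kernel

theorem rot9_2r : band (Rule.ok (2 * 10) EX RL ⟨9 :: [1, 9, 1], [], 7, true⟩) (lall (memL L) [1, 9, 1]) = true := by decide +kernel

theorem rot9_3 : T.rot 9 [3, 9, 3] (sel (ones 1024) ip9 3) = true := by decide +kernel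

theorem rot9_3r : band (Rule.ok (2 * 10) EX RL ⟨9 :: [3, 9, 3], [], 22, true⟩) (lall (memL L) [3, 9, 3]) = true := by decide +kernel

theorem rot9_4 : T.rot 9 [4, 9, 4] (sel (ones 1024) ip9 4) = true := by decide +kernel

theorem rot9_4r : band (Rule.ok (2 * 10) EX RL ⟨9 :: [4, 9, 4], [], 28, true⟩) (lall (memL L) [4, 9, 4]) = true := by decide +kernel

theorem rot9_5 : T.rot 9 [6, 9, 6] (sel (ones 1024) ip9 5) = true := by decide +kernel

theorem rot9_5r : band (Rule.ok (2 * 10) EX RL ⟨9 :: [6, 9, 6], [], 37, true⟩) (lall (memL L) [6, 9, 6]) = true := by decide +kernel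

theorem rot9_6 : T.rot 9 [7, 9, 7] (sel (ones 1024) ip9 6) = true := by decide +kernel

theorem rot9_6r : band (Rule.ok (2 * 10) EX RL ⟨9 :: [7, 9, 7], [], 40, true⟩) (lall (memL L) [7, 9, 7]) = true := by decide +kernel

theorem rot9_7 : T.rot 9 [8, 9, 8] (sel (ones 1024) ip9 7) = true := by decide +kernel

theorem rot9_7r : band (Rule.ok (2 * 10) EX RL ⟨9 :: [8, 9, 8], [], 42, true⟩) (lall (memL L) [8, 9, 8]) = true := by decide +kernel

theorem rot9_8 : T.rot 9 [10, 9, 10] (sel (ones 1024) ip9 8) = true := by decide +kernel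

theorem rot9_8r : band (Rule.ok (2 * 10) EX RL ⟨9 :: [10, 9, 10], [], 44, false⟩) (lall (memL L) [10, 9, 10]) = true := by decide +kernel

theorem rot9_9 : T.rot 9 [2, 9, 2, 4] (sel (ones 1024) ip9 9) = true := by decide +kernel

theorem rot9_9r : band (Rule.ok (2 * 10) EX RL ⟨9 :: [2, 9, 2, 4], [6], 15, true⟩) (lall (memL L) [2, 9, 2, 4]) = true := by decide +kernel

theorem rot9_10 : T.rot 9 [2, 4, 9, 2] (sel (ones 1024) ip9 10) = true := by decide +kernel

theorem rot9_10r : band (Rule.ok (2 * 10) EX RL ⟨9 :: [2, 4, 9, 2], [2, 16], 15, true⟩) (lall (memL L) [2, 4, 9, 2]) = true := by decide +kernel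

theorem rot9_11 : T.rot 9 [2, 9, 4, 2] (sel (ones 1024) ip9 11) = true := by decide +kernel

theorem rot9_11r : band (Rule.ok (2 * 10) EX RL ⟨9 :: [2, 9, 4, 2], [2], 15, false⟩) (lall (memL L) [2, 9, 4, 2]) = true := by decide +kernel

theorem rot9_12 : T.rot 9 [4, 2, 9, 2] (sel (ones 1024) ip9 12) = true := by decide +kernel

theorem rot9_12r : band (Rule.ok (2 * 10) EX RL ⟨9 :: [4, 2, 9, 2], [6, 16], 15, false⟩) (lall (memL L) [4, 2, 9, 2]) = true := by decide +kernel

theorem rot9_13 : T.rot 9 [5, 9, 5, 7] (sel (ones 1024) ip9 13) = true := by decide +kernel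

theorem rot9_13r : band (Rule.ok (2 * 10) EX RL ⟨9 :: [5, 9, 5, 7], [12], 33, true⟩) (lall (memL L) [5, 9, 5, 7]) = true := by decide +kernel

theorem rot9_14 : T.rot 9 [5, 7, 9, 5] (sel (ones 1024) ip9 14) = true := by decide +kernel

theorem rot9_14r : band (Rule.ok (2 * 10) EX RL ⟨9 :: [5, 7, 9, 5], [8, 16], 33, true⟩) (lall (memL L) [5, 7, 9, 5]) = true := by decide +kernel

theorem rot9_15 : T.rot 9 [5, 9, 7, 5] (sel (ones 1024) ip9 15) = true := by decide +kernel

theorem rot9_15r : band (Rule.ok (2 * 10) EX RL ⟨9 :: [5, 9, 7, 5], [8], 33, false⟩) (lall (memL L) [5, 9, 7, 5]) = true := by decide +kernel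

theorem rot9_16 : T.rot 9 [7, 5, 9, 5] (sel (ones 1024) ip9 16) = true := by decide +kernel

theorem rot9_16r : band (Rule.ok (2 * 10) EX RL ⟨9 :: [7, 5, 9, 5], [12, 16], 33, false⟩) (lall (memL L) [7, 5, 9, 5]) = true := by decide +kernel

theorem rot9_17 : T.rot 9 [10, 8, 10, 8] (sel (ones 1024) ip9 17) = true := by decide +kernel

theorem rot9_17r : band (Rule.ok (2 * 10) EX RL ⟨9 :: [10, 8, 10, 8], [], 43, true⟩) (lall (memL L) [10, 8, 10, 8]) = true := by decide +kernel

theorem rot9_18 : T.rot 9 [8, 10, 8, 10] (sel (ones 1024) ip9 18) = true := by decide +kernel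

theorem rot9_18r : band (Rule.ok (2 * 10) EX RL ⟨9 :: [8, 10, 8, 10], [16], 43, false⟩) (lall (memL L) [8, 10, 8, 10]) = true := by decide +kernel

theorem cov9 : T.cover 9 [(sel (ones 1024) ip9 1), (sel (ones 1024) ip9 2), (sel (ones 1024) ip9 3), (sel (ones 1024) ip9 4), (sel (ones 1024) ip9 5), (sel (ones 1024) ip9 6), (sel (ones 1024) ip9 7), (sel (ones 1024) ip9 8), (sel (ones 1024) ip9 9), (sel (ones 1024) ip9 10), (sel (ones 1024) ip9 11), (sel (ones 1024) ip9 12), (sel (ones 1024) ip9 13), (sel (ones 1024) ip9 14), (sel (ones 1024) ip9 15), (sel (ones 1024) ip9 16), (sel (ones 1024) ip9 17), (sel (ones 1024) ip9 18)] = true := by decide +kernel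

theorem tl9 : T.treeLt 10 9 = true := by decide +kernel

theorem rot10_1 : T.rot 10 [10] (sel (ones 1024) ip10 1) = true := by decide +kernel

theorem rot10_1r : band (Rule.ok (2 * 10) EX RL ⟨10 :: [10], [], 45, false⟩) (lall (memL L) [10]) = true := by decide +kernel

theorem rot10_2 : T.rot 10 [1, 10, 1] (sel (ones 1024) ip10 2) = true := by decide +kernel

theorem rot10_2r : band (Rule.ok (2 * 10) EX RL ⟨10 :: [1, 10, 1], [], 8, true⟩) (lall (memL L) [1, 10, 1]) = true := by decide +kernel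

theorem rot10_3 : T.rot 10 [2, 10, 2] (sel (ones 1024) ip10 3) = true := by decide +kernel

theorem rot10_3r : band (Rule.ok (2 * 10) EX RL ⟨10 :: [2, 10, 2], [], 16, true⟩) (lall (memL L) [2, 10, 2]) = true := by decide +kernel

theorem rot10_4 : T.rot 10 [4, 10, 4] (sel (ones 1024) ip10 4) = true := by decide +kernel

theorem rot10_4r : band (Rule.ok (2 * 10) EX RL ⟨10 :: [4, 10, 4], [], 29, true⟩) (lall (memL L) [4, 10, 4]) = true := by decide +kernel

theorem rot10_5 : T.rot 10 [5, 10, 5] (sel (ones 1024) ip10 5) = true := by decide +kernel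

theorem rot10_5r : band (Rule.ok (2 * 10) EX RL ⟨10 :: [5, 10, 5], [], 34, true⟩) (lall (memL L) [5, 10, 5]) = true := by decide +kernel

theorem rot10_6 : T.rot 10 [7, 10, 7] (sel (ones 1024) ip10 6) = true := by decide +kernel

theorem rot10_6r : band (Rule.ok (2 * 10) EX RL ⟨10 :: [7, 10, 7], [], 41, true⟩) (lall (memL L) [7, 10, 7]) = true := by decide +kernel

theorem rot10_7 : T.rot 10 [9, 10, 9] (sel (ones 1024) ip10 7) = true := by decide +kernel

theorem rot10_7r : band (Rule.ok (2 * 10) EX RL ⟨10 :: [9, 10, 9], [], 44, true⟩) (lall (memL L) [9, 10, 9]) = true := by decide +kernel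

theorem rot10_8 : T.rot 10 [3, 10, 3, 4] (sel (ones 1024) ip10 8) = true := by decide +kernel

theorem rot10_8r : band (Rule.ok (2 * 10) EX RL ⟨10 :: [3, 10, 3, 4], [6], 23, true⟩) (lall (memL L) [3, 10, 3, 4]) = true := by decide +kernel

theorem rot10_9 : T.rot 10 [3, 4, 10, 3] (sel (ones 1024) ip10 9) = true := by decide +kernel

theorem rot10_9r : band (Rule.ok (2 * 10) EX RL ⟨10 :: [3, 4, 10, 3], [4, 18], 23, true⟩) (lall (memL L) [3, 4, 10, 3]) = true := by decide +kernel

theorem rot10_10 : T.rot 10 [3, 10, 4, 3] (sel (ones 1024) ip10 10) = true := by decide +kernel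

theorem rot10_10r : band (Rule.ok (2 * 10) EX RL ⟨10 :: [3, 10, 4, 3], [4], 23, false⟩) (lall (memL L) [3, 10, 4, 3]) = true := by decide +kernel

theorem rot10_11 : T.rot 10 [4, 3, 10, 3] (sel (ones 1024) ip10 11) = true := by decide +kernel

theorem rot10_11r : band (Rule.ok (2 * 10) EX RL ⟨10 :: [4, 3, 10, 3], [6, 18], 23, false⟩) (lall (memL L) [4, 3, 10, 3]) = true := by decide +kernel

theorem rot10_12 : T.rot 10 [6, 10, 6, 7] (sel (ones 1024) ip10 12) = true := by decide +kernel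

theorem rot10_12r : band (Rule.ok (2 * 10) EX RL ⟨10 :: [6, 10, 6, 7], [12], 38, true⟩) (lall (memL L) [6, 10, 6, 7]) = true := by decide +kernel

theorem rot10_13 : T.rot 10 [6, 7, 10, 6] (sel (ones 1024) ip10 13) = true := by decide +kernel

theorem rot10_13r : band (Rule.ok (2 * 10) EX RL ⟨10 :: [6, 7, 10, 6], [10, 18], 38, true⟩) (lall (memL L) [6, 7, 10, 6]) = true := by decide +kernel

theorem rot10_14 : T.rot 10 [6, 10, 7, 6] (sel (ones 1024) ip10 14) = true := by decide +kernel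

theorem rot10_14r : band (Rule.ok (2 * 10) EX RL ⟨10 :: [6, 10, 7, 6], [10], 38, false⟩) (lall (memL L) [6, 10, 7, 6]) = true := by decide +kernel

theorem rot10_15 : T.rot 10 [7, 6, 10, 6] (sel (ones 1024) ip10 15) = true := by decide +kernel

theorem rot10_15r : band (Rule.ok (2 * 10) EX RL ⟨10 :: [7, 6, 10, 6], [12, 18], 38, false⟩) (lall (memL L) [7, 6, 10, 6]) = true := by decide +kernel

theorem rot10_16 : T.rot 10 [8, 10, 8, 9] (sel (ones 1024) ip10 16) = true := by decide +kernel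

theorem rot10_16r : band (Rule.ok (2 * 10) EX RL ⟨10 :: [8, 10, 8, 9], [16], 43, true⟩) (lall (memL L) [8, 10, 8, 9]) = true := by decide +kernel

theorem rot10_17 : T.rot 10 [8, 9, 10, 8] (sel (ones 1024) ip10 17) = true := by decide +kernel

theorem rot10_17r : band (Rule.ok (2 * 10) EX RL ⟨10 :: [8, 9, 10, 8], [14, 18], 43, true⟩) (lall (memL L) [8, 9, 10, 8]) = true := by decide +kernel

theorem rot10_18 : T.rot 10 [8, 10, 9, 8] (sel (ones 1024) ip10 18) = true := by decide +kernel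

theorem rot10_18r : band (Rule.ok (2 * 10) EX RL ⟨10 :: [8, 10, 9, 8], [14], 43, false⟩) (lall (memL L) [8, 10, 9, 8]) = true := by decide +kernel

theorem rot10_19 : T.rot 10 [9, 8, 10, 8] (sel (ones 1024) ip10 19) = true := by decide +kernel

theorem rot10_19r : band (Rule.ok (2 * 10) EX RL ⟨10 :: [9, 8, 10, 8], [16, 18], 43, false⟩) (lall (memL L) [9, 8, 10, 8]) = true := by decide +kernel

theorem cov10 : T.cover 10 [(sel (ones 1024) ip10 1), (sel (ones 1024) ip10 2), (sel (ones 1024) ip10 3), (sel (ones 1024) ip10 4), (sel (ones 1024) ip10 5), (sel (ones 1024) ip10 6), (sel (ones 1024) ip10 7), (sel (ones 1024) ip10 8), (sel (ones 1024) ip10 9), (sel (ones 1024) ip10 10), (sel (ones 1024) ip10 11), (sel (ones 1024) ip10 12), (sel (ones 1024) ip10 13), (sel (ones 1024) ip10 14), (sel (ones 1024) ip10 15), (sel (ones 1024) ip10 16), (sel (ones 1024) ip10 17), (sel (ones 1024) ip10 18), (sel (ones 1024) ip10 19)] = true := by decide +kernel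

theorem tl10 : T.treeLt 10 10 = true := by decide +kernel

end Cfsg.Agent.Spor.HLt
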